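import Cfsg.Agent.Lib.HeType.Tri.Affine.KillData

/-!
# The impossible choices
-/

set_option autoImplicit false
set_option maxRecDepth 100000
set_option Elab.async false

namespace CfsgLib.HeType.Tri.Affine

variable {G : Type*} [Group G] {f : ℕ → G} {s : ℕ → G}

theorem badsq2_ok : killOk badsq2 1 [15] [7, 7, 11, 7, 11] = true := by decide +kernel

theorem badsq2_false (S : Sys badsq2 f s) : False := S.false_of_killOk badsq2_ok

theorem badsq3_ok : killOk badsq3 1 [15] [7, 7, 11, 7, 11] = true := by decide +kernel

theorem badsq3_false (S : Sys badsq3 f s) : False := S.false_of_killOk badsq3_ok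

theorem badsq4_ok : killOk badsq4 1 [15] [7, 7, 11, 7, 11] = true := by decide +kernel

theorem badsq4_false (S : Sys badsq4 f s) : False := S.false_of_killOk badsq4_ok

theorem badsq5_ok : killOk badsq5 1 [15] [7, 7, 11, 7, 11] = true := by decide +kernel

theorem badsq5_false (S : Sys badsq5 f s) : False := S.false_of_killOk badsq5_ok

theorem badsq6_ok : killOk badsq6 1 [17] [7, 7, 8, 11, 7, 11] = true := by decide +kernel

theorem badsq6_false (S : Sys badsq6 f s) : False := S.false_of_killOk badsq6_ok

theorem badsq7_ok : killOk badsq7 1 [17] [7, 7, 8, 11, 7, 11] = true := by decide +kernel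

theorem badsq7_false (S : Sys badsq7 f s) : False := S.false_of_killOk badsq7_ok

theorem bad0_1_ok : killOk bad0_1 1 [19] [7, 7, 8, 9] = true := by decide +kernel

theorem bad0_1_false (S : Sys bad0_1 f s) : False := S.false_of_killOk bad0_1_ok

theorem bad5_0_ok : killOk bad5_0 1 [19] [7, 8, 11, 7, 7] = true := by decide +kernel

theorem bad5_0_false (S : Sys bad5_0 f s) : False := S.false_of_killOk bad5_0_ok

theorem bad5_1_ok : killOk bad5_1 1 [19] [7, 8, 11, 7, 7] = true := by decide +kernel

theorem bad5_1_false (S : Sys bad5_1 f s) : False := S.false_of_killOk bad5_1_ok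

theorem bad67_0_ok : killOk bad67_0 1 [19] [7, 7, 8, 9] = true := by decide +kernel

theorem bad67_0_false (S : Sys bad67_0 f s) : False := S.false_of_killOk bad67_0_ok

theorem bad70_0_ok : killOk bad70_0 1 [19] [7, 8, 11, 7, 7] = true := by decide +kernel

theorem bad70_0_false (S : Sys bad70_0 f s) : False := S.false_of_killOk bad70_0_ok

theorem bad70_1_ok : killOk bad70_1 1 [19] [7, 8, 11, 7, 7] = true := by decide +kernel

theorem bad70_1_false (S : Sys bad70_1 f s) : False := S.false_of_killOk bad70_1_ok

end CfsgLib.HeType.Tri.Affine
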