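import Cfsg.Agent.Lib.HeType.Tri.Kill
import Cfsg.Agent.Lib.HeType.Tri.Affine.Data

/-!
Generated data: choices of the values of the relations that no group satisfies.
-/

set_option autoImplicit false
set_option maxRecDepth 100000

namespace CfsgLib.HeType.Tri.Affine

/-- Certificate for one impossible choice. -/
def badsq2 : Data where
  K := 1
  dgens := dgens
  rels := [
    [.s 0, .s 0, .s 0], [.c 8, .s 0, .c 8, .s 0, .c 2], [.s 1, .s 0], [.s 0, .s 1]]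
  defs := [(0,0,0)]
  facts := [
    (.pair 0 128 128, .def'),
    (.pair 0 256 256, .def'),
    (.pair 0 384 384, .def'),
    (.pair 0 1 1, .def'),
    (.pair 0 8 8, .def'),
    (.edge 0 0 0 0 1 0, .def'),
    (.edge 1 0 1 0 0 0, .walk ⟨0, 0, 0⟩ [.ext 0 5 [] []] [] (some (2, 0))),
    (.pair 1 256 256, .walk ⟨256, 0, 0⟩ [.ext 0 5 [] [1]] [.ext 0 5 [5] []] none),
    (.pair 1 1 64, .walk ⟨64, 0, 0⟩ [.ext 0 5 [] [2, 2]] [.ext 0 5 [1, 3, 1, 3] []] none),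
    (.pair 1 15365 18176, .walk ⟨18176, 0, 0⟩ [.ext 0 5 [] [0, 0, 0, 0, 0, 2, 0]] [.ext 0 5 [5, 5, 7] []] none),
    (.pair 1 65 1, .walk ⟨1, 0, 0⟩ [.ext 0 5 [] [3]] [.ext 0 5 [0] []] none),
    (.pair 1 69 5, .walk ⟨5, 0, 0⟩ [.ext 0 5 [] [0, 0, 0, 0, 0, 0, 3, 0]] [.ext 0 5 [0, 2] []] none),
    (.pair 1 457 456, .walk ⟨456, 0, 0⟩ [.ext 0 5 [] [2, 4]] [.ext 0 5 [7, 3, 6, 7] []] none),
    (.edge 0 387 1 0 0 448, .walk ⟨0, 0, 0⟩ [.code 8, .code 2, .ext 0 5 [3, 1, 3, 6] [2], .code 8] [] (some (1, 1))),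
    (.edge 1 0 0 387 1 384, .walk ⟨387, 1, 0⟩ [.ext 0 13 [] []] [] (some (2, 0))),
    (.pair 1 6 0, .walk ⟨0, 1, 0⟩ [.code 8, .code 2, .ext 0 13 [6, 7, 7, 2, 7] [], .code 8, .ext 0 5 [1, 2] [2]] [] (some (1, 1)))]
  live := []
  reps := []
  close := []
  n := 0

/-- Certificate for one impossible choice. -/
def badsq3 : Data where
  K := 1
  dgens := dgens
  rels := [
    [.s 0, .s 0, .s 0], [.c 8, .s 0, .c 8, .s 0, .c 3], [.s 1, .s 0], [.s 0, .s 1]]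
  defs := [(0,0,0)]
  facts := [
    (.pair 0 128 128, .def'),
    (.pair 0 256 256, .def'),
    (.pair 0 384 384, .def'),
    (.pair 0 1 1, .def'),
    (.pair 0 8 8, .def'),
    (.edge 0 0 0 0 1 0, .def'),
    (.edge 1 0 1 0 0 0, .walk ⟨0, 0, 0⟩ [.ext 0 5 [] []] [] (some (2, 0))),
    (.pair 1 256 256, .walk ⟨256, 0, 0⟩ [.ext 0 5 [] [1]] [.ext 0 5 [5] []] none),
    (.pair 1 1 64, .walk ⟨64, 0, 0⟩ [.ext 0 5 [] [2, 2]] [.ext 0 5 [1, 3, 1, 3] []] none),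
    (.pair 1 15365 18176, .walk ⟨18176, 0, 0⟩ [.ext 0 5 [] [0, 0, 0, 0, 0, 2, 0]] [.ext 0 5 [5, 5, 7] []] none),
    (.pair 1 65 1, .walk ⟨1, 0, 0⟩ [.ext 0 5 [] [3]] [.ext 0 5 [0] []] none),
    (.pair 1 69 5, .walk ⟨5, 0, 0⟩ [.ext 0 5 [] [0, 0, 0, 0, 0, 0, 3, 0]] [.ext 0 5 [0, 2] []] none),
    (.pair 1 457 456, .walk ⟨456, 0, 0⟩ [.ext 0 5 [] [2, 4]] [.ext 0 5 [7, 3, 6, 7] []] none),
    (.edge 0 386 1 0 0 448, .walk ⟨0, 0, 0⟩ [.code 8, .code 3, .ext 0 5 [0, 3, 1, 3, 6] [2], .code 8] [] (some (1, 1))),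
    (.edge 1 0 0 386 1 384, .walk ⟨386, 1, 0⟩ [.ext 0 13 [] []] [] (some (2, 0))),
    (.pair 1 6 0, .walk ⟨0, 1, 0⟩ [.code 8, .code 3, .ext 0 13 [6, 7, 7, 2, 7] [], .code 8, .ext 0 5 [1, 2] [2]] [] (some (1, 1)))]
  live := []
  reps := []
  close := []
  n := 0

/-- Certificate for one impossible choice. -/
def badsq4 : Data where
  K := 1
  dgens := dgens
  rels := [
    [.s 0, .s 0, .s 0], [.c 8, .s 0, .c 8, .s 0, .c 4], [.s 1, .s 0], [.s 0, .s 1]]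
  defs := [(0,0,0)]
  facts := [
    (.pair 0 128 128, .def'),
    (.pair 0 256 256, .def'),
    (.pair 0 384 384, .def'),
    (.pair 0 1 1, .def'),
    (.pair 0 8 8, .def'),
    (.edge 0 0 0 0 1 0, .def'),
    (.edge 1 0 1 0 0 0, .walk ⟨0, 0, 0⟩ [.ext 0 5 [] []] [] (some (2, 0))),
    (.pair 1 256 256, .walk ⟨256, 0, 0⟩ [.ext 0 5 [] [1]] [.ext 0 5 [5] []] none),
    (.pair 1 1 64, .walk ⟨64, 0, 0⟩ [.ext 0 5 [] [2, 2]] [.ext 0 5 [1, 3, 1, 3] []] none),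
    (.pair 1 15365 18176, .walk ⟨18176, 0, 0⟩ [.ext 0 5 [] [0, 0, 0, 0, 0, 2, 0]] [.ext 0 5 [5, 5, 7] []] none),
    (.pair 1 65 1, .walk ⟨1, 0, 0⟩ [.ext 0 5 [] [3]] [.ext 0 5 [0] []] none),
    (.pair 1 69 5, .walk ⟨5, 0, 0⟩ [.ext 0 5 [] [0, 0, 0, 0, 0, 0, 3, 0]] [.ext 0 5 [0, 2] []] none),
    (.pair 1 457 456, .walk ⟨456, 0, 0⟩ [.ext 0 5 [] [2, 4]] [.ext 0 5 [7, 3, 6, 7] []] none),
    (.edge 0 389 1 0 0 448, .walk ⟨0, 0, 0⟩ [.code 8, .code 4, .ext 0 5 [4, 2, 4, 6] [2], .code 8] [] (some (1, 1))),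
    (.edge 1 0 0 389 1 384, .walk ⟨389, 1, 0⟩ [.ext 0 13 [] []] [] (some (2, 0))),
    (.pair 1 6 0, .walk ⟨0, 1, 0⟩ [.code 8, .code 4, .ext 0 13 [6, 7, 7, 2, 7] [], .code 8, .ext 0 5 [1, 2] [2]] [] (some (1, 1)))]
  live := []
  reps := []
  close := []
  n := 0

/-- Certificate for one impossible choice. -/
def badsq5 : Data where
  K := 1
  dgens := dgens
  rels := [
    [.s 0, .s 0, .s 0], [.c 8, .s 0, .c 8, .s 0, .c 5], [.s 1, .s 0], [.s 0, .s 1]]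
  defs := [(0,0,0)]
  facts := [
    (.pair 0 128 128, .def'),
    (.pair 0 256 256, .def'),
    (.pair 0 384 384, .def'),
    (.pair 0 1 1, .def'),
    (.pair 0 8 8, .def'),
    (.edge 0 0 0 0 1 0, .def'),
    (.edge 1 0 1 0 0 0, .walk ⟨0, 0, 0⟩ [.ext 0 5 [] []] [] (some (2, 0))),
    (.pair 1 256 256, .walk ⟨256, 0, 0⟩ [.ext 0 5 [] [1]] [.ext 0 5 [5] []] none),
    (.pair 1 1 64, .walk ⟨64, 0, 0⟩ [.ext 0 5 [] [2, 2]] [.ext 0 5 [1, 3, 1, 3] []] none),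
    (.pair 1 15365 18176, .walk ⟨18176, 0, 0⟩ [.ext 0 5 [] [0, 0, 0, 0, 0, 2, 0]] [.ext 0 5 [5, 5, 7] []] none),
    (.pair 1 65 1, .walk ⟨1, 0, 0⟩ [.ext 0 5 [] [3]] [.ext 0 5 [0] []] none),
    (.pair 1 69 5, .walk ⟨5, 0, 0⟩ [.ext 0 5 [] [0, 0, 0, 0, 0, 0, 3, 0]] [.ext 0 5 [0, 2] []] none),
    (.pair 1 457 456, .walk ⟨456, 0, 0⟩ [.ext 0 5 [] [2, 4]] [.ext 0 5 [7, 3, 6, 7] []] none),
    (.edge 0 388 1 0 0 448, .walk ⟨0, 0, 0⟩ [.code 8, .code 5, .ext 0 5 [0, 4, 2, 4, 6] [2], .code 8] [] (some (1, 1))),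
    (.edge 1 0 0 388 1 384, .walk ⟨388, 1, 0⟩ [.ext 0 13 [] []] [] (some (2, 0))),
    (.pair 1 6 0, .walk ⟨0, 1, 0⟩ [.code 8, .code 5, .ext 0 13 [6, 7, 7, 2, 7] [], .code 8, .ext 0 5 [1, 2] [2]] [] (some (1, 1)))]
  live := []
  reps := []
  close := []
  n := 0

/-- Certificate for one impossible choice. -/
def badsq6 : Data where
  K := 1
  dgens := dgens
  rels := [
    [.s 0, .s 0, .s 0], [.c 8, .s 0, .c 8, .s 0, .c 6], [.s 1, .s 0], [.s 0, .s 1]]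
  defs := [(0,0,0)]
  facts := [
    (.pair 0 128 128, .def'),
    (.pair 0 256 256, .def'),
    (.pair 0 384 384, .def'),
    (.pair 0 1 1, .def'),
    (.pair 0 8 8, .def'),
    (.edge 0 0 0 0 1 0, .def'),
    (.edge 1 0 1 0 0 0, .walk ⟨0, 0, 0⟩ [.ext 0 5 [] []] [] (some (2, 0))),
    (.pair 1 256 256, .walk ⟨256, 0, 0⟩ [.ext 0 5 [] [1]] [.ext 0 5 [5] []] none),
    (.pair 1 1 64, .walk ⟨64, 0, 0⟩ [.ext 0 5 [] [2, 2]] [.ext 0 5 [1, 3, 1, 3] []] none),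
    (.pair 1 15365 18176, .walk ⟨18176, 0, 0⟩ [.ext 0 5 [] [0, 0, 0, 0, 0, 2, 0]] [.ext 0 5 [5, 5, 7] []] none),
    (.pair 1 65 1, .walk ⟨1, 0, 0⟩ [.ext 0 5 [] [3]] [.ext 0 5 [0] []] none),
    (.pair 1 69 5, .walk ⟨5, 0, 0⟩ [.ext 0 5 [] [0, 0, 0, 0, 0, 0, 3, 0]] [.ext 0 5 [0, 2] []] none),
    (.pair 1 457 456, .walk ⟨456, 0, 0⟩ [.ext 0 5 [] [2, 4]] [.ext 0 5 [7, 3, 6, 7] []] none),
    (.edge 0 391 1 0 0 448, .walk ⟨0, 0, 0⟩ [.code 8, .code 6, .ext 0 5 [1, 4, 2, 4, 6] [2], .code 8] [] (some (1, 1))),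
    (.edge 1 0 0 391 1 384, .walk ⟨391, 1, 0⟩ [.ext 0 13 [] []] [] (some (2, 0))),
    (.edge 0 462 1 8 1 384, .walk ⟨8, 1, 0⟩ [.ext 0 13 [6, 7, 7, 2, 7] [], .ext 0 5 [1, 2, 6] []] [] (some (0, 0))),
    (.edge 1 8 1 462 1 448, .walk ⟨462, 1, 0⟩ [.ext 0 15 [] []] [] (some (2, 0))),
    (.pair 1 7 64, .walk ⟨8, 1, 0⟩ [.code 8, .code 6, .ext 0 15 [7, 3, 6, 7] [], .code 8, .ext 0 15 [0, 1, 2] []] [] (some (1, 1)))]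
  live := []
  reps := []
  close := []
  n := 0

/-- Certificate for one impossible choice. -/
def badsq7 : Data where
  K := 1
  dgens := dgens
  rels := [
    [.s 0, .s 0, .s 0], [.c 8, .s 0, .c 8, .s 0, .c 7], [.s 1, .s 0], [.s 0, .s 1]]
  defs := [(0,0,0)]
  facts := [
    (.pair 0 128 128, .def'),
    (.pair 0 256 256, .def'),
    (.pair 0 384 384, .def'),
    (.pair 0 1 1, .def'),
    (.pair 0 8 8, .def'),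
    (.edge 0 0 0 0 1 0, .def'),
    (.edge 1 0 1 0 0 0, .walk ⟨0, 0, 0⟩ [.ext 0 5 [] []] [] (some (2, 0))),
    (.pair 1 256 256, .walk ⟨256, 0, 0⟩ [.ext 0 5 [] [1]] [.ext 0 5 [5] []] none),
    (.pair 1 1 64, .walk ⟨64, 0, 0⟩ [.ext 0 5 [] [2, 2]] [.ext 0 5 [1, 3, 1, 3] []] none),
    (.pair 1 15365 18176, .walk ⟨18176, 0, 0⟩ [.ext 0 5 [] [0, 0, 0, 0, 0, 2, 0]] [.ext 0 5 [5, 5, 7] []] none),
    (.pair 1 65 1, .walk ⟨1, 0, 0⟩ [.ext 0 5 [] [3]] [.ext 0 5 [0] []] none),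
    (.pair 1 69 5, .walk ⟨5, 0, 0⟩ [.ext 0 5 [] [0, 0, 0, 0, 0, 0, 3, 0]] [.ext 0 5 [0, 2] []] none),
    (.pair 1 457 456, .walk ⟨456, 0, 0⟩ [.ext 0 5 [] [2, 4]] [.ext 0 5 [7, 3, 6, 7] []] none),
    (.edge 0 390 1 0 0 448, .walk ⟨0, 0, 0⟩ [.code 8, .code 7, .ext 0 5 [6, 7, 7, 2, 7] [2], .code 8] [] (some (1, 1))),
    (.edge 1 0 0 390 1 384, .walk ⟨390, 1, 0⟩ [.ext 0 13 [] []] [] (some (2, 0))),
    (.edge 0 398 1 8 1 384, .walk ⟨8, 1, 0⟩ [.ext 0 13 [1, 4, 2, 4, 6] [], .ext 0 5 [6, 7, 7, 2, 7] []] [] (some (0, 0))),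
    (.edge 1 8 1 398 1 448, .walk ⟨398, 1, 0⟩ [.ext 0 15 [] []] [] (some (2, 0))),
    (.pair 1 7 64, .walk ⟨8, 1, 0⟩ [.code 8, .code 7, .ext 0 15 [0, 6] [], .code 8, .ext 0 15 [0, 1, 2] []] [] (some (1, 1)))]
  live := []
  reps := []
  close := []
  n := 0

/-- Certificate for one impossible choice. -/
def bad0_1 : Data where
  K := 1
  dgens := dgens
  rels := [
    [.s 0, .s 0, .s 0], [.c 656, .s 0, .c 656, .s 0, .c 656, .s 0, .c 0], [.c 8, .s 0, .c 8, .s 0, .c 1],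
    [.s 1, .s 0], [.s 0, .s 1]]
  defs := [(0,0,0)]
  facts := [
    (.pair 0 128 128, .def'),
    (.pair 0 256 256, .def'),
    (.pair 0 384 384, .def'),
    (.pair 0 1 1, .def'),
    (.pair 0 8 8, .def'),
    (.edge 0 0 0 0 1 0, .def'),
    (.edge 1 0 1 0 0 0, .walk ⟨0, 0, 0⟩ [.ext 0 5 [] []] [] (some (3, 0))),
    (.pair 1 256 256, .walk ⟨256, 0, 0⟩ [.ext 0 5 [] [1]] [.ext 0 5 [5] []] none),
    (.pair 1 1 64, .walk ⟨64, 0, 0⟩ [.ext 0 5 [] [2, 2]] [.ext 0 5 [1, 3, 1, 3] []] none),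
    (.pair 1 15365 18176, .walk ⟨18176, 0, 0⟩ [.ext 0 5 [] [0, 0, 0, 0, 0, 2, 0]] [.ext 0 5 [5, 5, 7] []] none),
    (.pair 1 65 1, .walk ⟨1, 0, 0⟩ [.ext 0 5 [] [3]] [.ext 0 5 [0] []] none),
    (.pair 1 69 5, .walk ⟨5, 0, 0⟩ [.ext 0 5 [] [0, 0, 0, 0, 0, 0, 3, 0]] [.ext 0 5 [0, 2] []] none),
    (.pair 1 457 456, .walk ⟨456, 0, 0⟩ [.ext 0 5 [] [2, 4]] [.ext 0 5 [7, 3, 6, 7] []] none),
    (.edge 0 384 1 0 0 448, .walk ⟨0, 0, 0⟩ [.code 8, .code 1, .ext 0 5 [0, 7, 3, 6, 7] [2], .code 8] [] (some (2, 1))),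
    (.edge 1 0 0 384 1 384, .walk ⟨384, 1, 0⟩ [.ext 0 13 [] []] [] (some (3, 0))),
    (.edge 0 392 1 8 1 384, .walk ⟨8, 1, 0⟩ [.ext 0 13 [7, 3, 6, 7] [], .ext 0 5 [0, 7, 3, 6, 7] []] [] (some (0, 0))),
    (.edge 1 8 1 392 1 448, .walk ⟨392, 1, 0⟩ [.ext 0 15 [] []] [] (some (3, 0))),
    (.edge 0 16257 1 1536 1 8192, .walk ⟨1536, 1, 0⟩ [.code 656, .code 0, .ext 0 13 [5, 7, 6, 7] [], .code 656, .ext 0 5 [6, 7, 1, 7, 5] [0, 0, 2, 0], .code 656] [] (some (1, 1))),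
    (.edge 1 1536 1 16257 1 8256, .walk ⟨16257, 1, 0⟩ [.ext 0 17 [] []] [] (some (3, 0))),
    (.pair 1 19458 16384, .walk ⟨1544, 1, 0⟩ [.ext 0 17 [0, 5, 6, 7] [], .ext 0 17 [0, 6, 5, 2] [7, 7, 9], .ext 0 17 [1, 6, 7, 5, 5] [7, 7, 9]] [] (some (0, 0)))]
  live := []
  reps := []
  close := []
  n := 0

/-- Certificate for one impossible choice. -/
def bad5_0 : Data where
  K := 1
  dgens := dgens
  rels := [
    [.s 0, .s 0, .s 0], [.c 656, .s 0, .c 656, .s 0, .c 656, .s 0, .c 5], [.c 8, .s 0, .c 8, .s 0, .c 0],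
    [.s 1, .s 0], [.s 0, .s 1]]
  defs := [(0,0,0)]
  facts := [
    (.pair 0 128 128, .def'),
    (.pair 0 256 256, .def'),
    (.pair 0 384 384, .def'),
    (.pair 0 1 1, .def'),
    (.pair 0 8 8, .def'),
    (.edge 0 0 0 0 1 0, .def'),
    (.edge 1 0 1 0 0 0, .walk ⟨0, 0, 0⟩ [.ext 0 5 [] []] [] (some (3, 0))),
    (.pair 1 256 256, .walk ⟨256, 0, 0⟩ [.ext 0 5 [] [1]] [.ext 0 5 [5] []] none),
    (.pair 1 1 64, .walk ⟨64, 0, 0⟩ [.ext 0 5 [] [2, 2]] [.ext 0 5 [1, 3, 1, 3] []] none),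
    (.pair 1 15365 18176, .walk ⟨18176, 0, 0⟩ [.ext 0 5 [] [0, 0, 0, 0, 0, 2, 0]] [.ext 0 5 [5, 5, 7] []] none),
    (.pair 1 65 1, .walk ⟨1, 0, 0⟩ [.ext 0 5 [] [3]] [.ext 0 5 [0] []] none),
    (.pair 1 69 5, .walk ⟨5, 0, 0⟩ [.ext 0 5 [] [0, 0, 0, 0, 0, 0, 3, 0]] [.ext 0 5 [0, 2] []] none),
    (.pair 1 457 456, .walk ⟨456, 0, 0⟩ [.ext 0 5 [] [2, 4]] [.ext 0 5 [7, 3, 6, 7] []] none),
    (.edge 0 385 1 0 0 448, .walk ⟨0, 0, 0⟩ [.code 8, .code 0, .ext 0 5 [7, 3, 6, 7] [2], .code 8] [] (some (2, 1))),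
    (.edge 1 0 0 385 1 384, .walk ⟨385, 1, 0⟩ [.ext 0 13 [] []] [] (some (3, 0))),
    (.edge 0 456 1 8 1 384, .walk ⟨8, 1, 0⟩ [.ext 0 13 [0, 7, 3, 6, 7] [], .ext 0 5 [6] []] [] (some (0, 0))),
    (.edge 1 8 1 456 1 448, .walk ⟨456, 1, 0⟩ [.ext 0 15 [] []] [] (some (3, 0))),
    (.edge 0 16263 1 1536 1 8192, .walk ⟨1536, 1, 0⟩ [.code 656, .code 5, .ext 0 13 [1, 3, 5, 2, 6] [], .code 656, .ext 0 5 [6, 7, 7, 5] [0, 0, 2, 0], .code 656] [] (some (1, 1))),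
    (.edge 1 1536 1 16263 1 8256, .walk ⟨16263, 1, 0⟩ [.ext 0 17 [] []] [] (some (3, 0))),
    (.pair 1 70 64, .walk ⟨1536, 1, 0⟩ [.code 8, .code 0, .ext 0 17 [1, 5, 6, 7, 2] [], .code 8, .ext 0 17 [0] []] [] (some (2, 1)))]
  live := []
  reps := []
  close := []
  n := 0

/-- Certificate for one impossible choice. -/
def bad5_1 : Data where
  K := 1
  dgens := dgens
  rels := [
    [.s 0, .s 0, .s 0], [.c 656, .s 0, .c 656, .s 0, .c 656, .s 0, .c 5], [.c 8, .s 0, .c 8, .s 0, .c 1],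
    [.s 1, .s 0], [.s 0, .s 1]]
  defs := [(0,0,0)]
  facts := [
    (.pair 0 128 128, .def'),
    (.pair 0 256 256, .def'),
    (.pair 0 384 384, .def'),
    (.pair 0 1 1, .def'),
    (.pair 0 8 8, .def'),
    (.edge 0 0 0 0 1 0, .def'),
    (.edge 1 0 1 0 0 0, .walk ⟨0, 0, 0⟩ [.ext 0 5 [] []] [] (some (3, 0))),
    (.pair 1 256 256, .walk ⟨256, 0, 0⟩ [.ext 0 5 [] [1]] [.ext 0 5 [5] []] none),
    (.pair 1 1 64, .walk ⟨64, 0, 0⟩ [.ext 0 5 [] [2, 2]] [.ext 0 5 [1, 3, 1, 3] []] none),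
    (.pair 1 15365 18176, .walk ⟨18176, 0, 0⟩ [.ext 0 5 [] [0, 0, 0, 0, 0, 2, 0]] [.ext 0 5 [5, 5, 7] []] none),
    (.pair 1 65 1, .walk ⟨1, 0, 0⟩ [.ext 0 5 [] [3]] [.ext 0 5 [0] []] none),
    (.pair 1 69 5, .walk ⟨5, 0, 0⟩ [.ext 0 5 [] [0, 0, 0, 0, 0, 0, 3, 0]] [.ext 0 5 [0, 2] []] none),
    (.pair 1 457 456, .walk ⟨456, 0, 0⟩ [.ext 0 5 [] [2, 4]] [.ext 0 5 [7, 3, 6, 7] []] none),
    (.edge 0 384 1 0 0 448, .walk ⟨0, 0, 0⟩ [.code 8, .code 1, .ext 0 5 [0, 7, 3, 6, 7] [2], .code 8] [] (some (2, 1))),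
    (.edge 1 0 0 384 1 384, .walk ⟨384, 1, 0⟩ [.ext 0 13 [] []] [] (some (3, 0))),
    (.edge 0 392 1 8 1 384, .walk ⟨8, 1, 0⟩ [.ext 0 13 [7, 3, 6, 7] [], .ext 0 5 [0, 7, 3, 6, 7] []] [] (some (0, 0))),
    (.edge 1 8 1 392 1 448, .walk ⟨392, 1, 0⟩ [.ext 0 15 [] []] [] (some (3, 0))),
    (.edge 0 16260 1 1536 1 8192, .walk ⟨1536, 1, 0⟩ [.code 656, .code 5, .ext 0 13 [0, 1, 3, 5, 2, 6] [], .code 656, .ext 0 5 [1, 6, 7, 7, 5] [0, 0, 2, 0], .code 656] [] (some (1, 1))),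
    (.edge 1 1536 1 16260 1 8256, .walk ⟨16260, 1, 0⟩ [.ext 0 17 [] []] [] (some (3, 0))),
    (.pair 1 70 64, .walk ⟨1536, 1, 0⟩ [.code 8, .code 1, .ext 0 17 [0, 5, 6, 7, 2] [], .code 8, .ext 0 17 [0] []] [] (some (2, 1)))]
  live := []
  reps := []
  close := []
  n := 0

/-- Certificate for one impossible choice. -/
def bad67_0 : Data where
  K := 1
  dgens := dgens
  rels := [
    [.s 0, .s 0, .s 0], [.c 656, .s 0, .c 656, .s 0, .c 656, .s 0, .c 67], [.c 8, .s 0, .c 8, .s 0, .c 0],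
    [.s 1, .s 0], [.s 0, .s 1]]
  defs := [(0,0,0)]
  facts := [
    (.pair 0 128 128, .def'),
    (.pair 0 256 256, .def'),
    (.pair 0 384 384, .def'),
    (.pair 0 1 1, .def'),
    (.pair 0 8 8, .def'),
    (.edge 0 0 0 0 1 0, .def'),
    (.edge 1 0 1 0 0 0, .walk ⟨0, 0, 0⟩ [.ext 0 5 [] []] [] (some (3, 0))),
    (.pair 1 256 256, .walk ⟨256, 0, 0⟩ [.ext 0 5 [] [1]] [.ext 0 5 [5] []] none),
    (.pair 1 1 64, .walk ⟨64, 0, 0⟩ [.ext 0 5 [] [2, 2]] [.ext 0 5 [1, 3, 1, 3] []] none),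
    (.pair 1 15365 18176, .walk ⟨18176, 0, 0⟩ [.ext 0 5 [] [0, 0, 0, 0, 0, 2, 0]] [.ext 0 5 [5, 5, 7] []] none),
    (.pair 1 65 1, .walk ⟨1, 0, 0⟩ [.ext 0 5 [] [3]] [.ext 0 5 [0] []] none),
    (.pair 1 69 5, .walk ⟨5, 0, 0⟩ [.ext 0 5 [] [0, 0, 0, 0, 0, 0, 3, 0]] [.ext 0 5 [0, 2] []] none),
    (.pair 1 457 456, .walk ⟨456, 0, 0⟩ [.ext 0 5 [] [2, 4]] [.ext 0 5 [7, 3, 6, 7] []] none),
    (.edge 0 385 1 0 0 448, .walk ⟨0, 0, 0⟩ [.code 8, .code 0, .ext 0 5 [7, 3, 6, 7] [2], .code 8] [] (some (2, 1))),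
    (.edge 1 0 0 385 1 384, .walk ⟨385, 1, 0⟩ [.ext 0 13 [] []] [] (some (3, 0))),
    (.edge 0 456 1 8 1 384, .walk ⟨8, 1, 0⟩ [.ext 0 13 [0, 7, 3, 6, 7] [], .ext 0 5 [6] []] [] (some (0, 0))),
    (.edge 1 8 1 456 1 448, .walk ⟨456, 1, 0⟩ [.ext 0 15 [] []] [] (some (3, 0))),
    (.edge 0 16321 1 1536 1 8192, .walk ⟨1536, 1, 0⟩ [.code 656, .code 67, .ext 0 13 [1, 3, 5, 6] [], .code 656, .ext 0 5 [0, 6, 7, 7, 2, 5] [0, 0, 2, 0], .code 656] [] (some (1, 1))),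
    (.edge 1 1536 1 16321 1 8256, .walk ⟨16321, 1, 0⟩ [.ext 0 17 [] []] [] (some (3, 0))),
    (.pair 1 19458 16384, .walk ⟨1544, 1, 0⟩ [.ext 0 17 [0, 3, 5, 6, 7, 4] [], .ext 0 17 [3, 6, 5, 2, 4] [7, 7, 9], .ext 0 17 [1, 6, 7, 5, 5] [7, 7, 9]] [] (some (0, 0)))]
  live := []
  reps := []
  close := []
  n := 0

/-- Certificate for one impossible choice. -/
def bad70_0 : Data where
  K := 1
  dgens := dgens
  rels := [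
    [.s 0, .s 0, .s 0], [.c 656, .s 0, .c 656, .s 0, .c 656, .s 0, .c 70], [.c 8, .s 0, .c 8, .s 0, .c 0],
    [.s 1, .s 0], [.s 0, .s 1]]
  defs := [(0,0,0)]
  facts := [
    (.pair 0 128 128, .def'),
    (.pair 0 256 256, .def'),
    (.pair 0 384 384, .def'),
    (.pair 0 1 1, .def'),
    (.pair 0 8 8, .def'),
    (.edge 0 0 0 0 1 0, .def'),
    (.edge 1 0 1 0 0 0, .walk ⟨0, 0, 0⟩ [.ext 0 5 [] []] [] (some (3, 0))),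
    (.pair 1 256 256, .walk ⟨256, 0, 0⟩ [.ext 0 5 [] [1]] [.ext 0 5 [5] []] none),
    (.pair 1 1 64, .walk ⟨64, 0, 0⟩ [.ext 0 5 [] [2, 2]] [.ext 0 5 [1, 3, 1, 3] []] none),
    (.pair 1 15365 18176, .walk ⟨18176, 0, 0⟩ [.ext 0 5 [] [0, 0, 0, 0, 0, 2, 0]] [.ext 0 5 [5, 5, 7] []] none),
    (.pair 1 65 1, .walk ⟨1, 0, 0⟩ [.ext 0 5 [] [3]] [.ext 0 5 [0] []] none),
    (.pair 1 69 5, .walk ⟨5, 0, 0⟩ [.ext 0 5 [] [0, 0, 0, 0, 0, 0, 3, 0]] [.ext 0 5 [0, 2] []] none),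
    (.pair 1 457 456, .walk ⟨456, 0, 0⟩ [.ext 0 5 [] [2, 4]] [.ext 0 5 [7, 3, 6, 7] []] none),
    (.edge 0 385 1 0 0 448, .walk ⟨0, 0, 0⟩ [.code 8, .code 0, .ext 0 5 [7, 3, 6, 7] [2], .code 8] [] (some (2, 1))),
    (.edge 1 0 0 385 1 384, .walk ⟨385, 1, 0⟩ [.ext 0 13 [] []] [] (some (3, 0))),
    (.edge 0 456 1 8 1 384, .walk ⟨8, 1, 0⟩ [.ext 0 13 [0, 7, 3, 6, 7] [], .ext 0 5 [6] []] [] (some (0, 0))),
    (.edge 1 8 1 456 1 448, .walk ⟨456, 1, 0⟩ [.ext 0 15 [] []] [] (some (3, 0))),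
    (.edge 0 16324 1 1536 1 8192, .walk ⟨1536, 1, 0⟩ [.code 656, .code 70, .ext 0 13 [0, 5, 2, 6, 3] [], .code 656, .ext 0 5 [0, 1, 7, 3, 6, 5] [0, 0, 2, 0], .code 656] [] (some (1, 1))),
    (.edge 1 1536 1 16324 1 8256, .walk ⟨16324, 1, 0⟩ [.ext 0 17 [] []] [] (some (3, 0))),
    (.pair 1 70 64, .walk ⟨1536, 1, 0⟩ [.code 8, .code 0, .ext 0 17 [5, 2, 6, 7] [], .code 8, .ext 0 17 [0] []] [] (some (2, 1)))]
  live := []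
  reps := []
  close := []
  n := 0

/-- Certificate for one impossible choice. -/
def bad70_1 : Data where
  K := 1
  dgens := dgens
  rels := [
    [.s 0, .s 0, .s 0], [.c 656, .s 0, .c 656, .s 0, .c 656, .s 0, .c 70], [.c 8, .s 0, .c 8, .s 0, .c 1],
    [.s 1, .s 0], [.s 0, .s 1]]
  defs := [(0,0,0)]
  facts := [
    (.pair 0 128 128, .def'),
    (.pair 0 256 256, .def'),
    (.pair 0 384 384, .def'),
    (.pair 0 1 1, .def'),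
    (.pair 0 8 8, .def'),
    (.edge 0 0 0 0 1 0, .def'),
    (.edge 1 0 1 0 0 0, .walk ⟨0, 0, 0⟩ [.ext 0 5 [] []] [] (some (3, 0))),
    (.pair 1 256 256, .walk ⟨256, 0, 0⟩ [.ext 0 5 [] [1]] [.ext 0 5 [5] []] none),
    (.pair 1 1 64, .walk ⟨64, 0, 0⟩ [.ext 0 5 [] [2, 2]] [.ext 0 5 [1, 3, 1, 3] []] none),
    (.pair 1 15365 18176, .walk ⟨18176, 0, 0⟩ [.ext 0 5 [] [0, 0, 0, 0, 0, 2, 0]] [.ext 0 5 [5, 5, 7] []] none),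
    (.pair 1 65 1, .walk ⟨1, 0, 0⟩ [.ext 0 5 [] [3]] [.ext 0 5 [0] []] none),
    (.pair 1 69 5, .walk ⟨5, 0, 0⟩ [.ext 0 5 [] [0, 0, 0, 0, 0, 0, 3, 0]] [.ext 0 5 [0, 2] []] none),
    (.pair 1 457 456, .walk ⟨456, 0, 0⟩ [.ext 0 5 [] [2, 4]] [.ext 0 5 [7, 3, 6, 7] []] none),
    (.edge 0 384 1 0 0 448, .walk ⟨0, 0, 0⟩ [.code 8, .code 1, .ext 0 5 [0, 7, 3, 6, 7] [2], .code 8] [] (some (2, 1))),
    (.edge 1 0 0 384 1 384, .walk ⟨384, 1, 0⟩ [.ext 0 13 [] []] [] (some (3, 0))),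
    (.edge 0 392 1 8 1 384, .walk ⟨8, 1, 0⟩ [.ext 0 13 [7, 3, 6, 7] [], .ext 0 5 [0, 7, 3, 6, 7] []] [] (some (0, 0))),
    (.edge 1 8 1 392 1 448, .walk ⟨392, 1, 0⟩ [.ext 0 15 [] []] [] (some (3, 0))),
    (.edge 0 16327 1 1536 1 8192, .walk ⟨1536, 1, 0⟩ [.code 656, .code 70, .ext 0 13 [5, 2, 6, 3] [], .code 656, .ext 0 5 [0, 7, 3, 6, 5] [0, 0, 2, 0], .code 656] [] (some (1, 1))),
    (.edge 1 1536 1 16327 1 8256, .walk ⟨16327, 1, 0⟩ [.ext 0 17 [] []] [] (some (3, 0))),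
    (.pair 1 70 64, .walk ⟨1536, 1, 0⟩ [.code 8, .code 1, .ext 0 17 [0, 2, 5, 6, 7] [], .code 8, .ext 0 17 [0] []] [] (some (2, 1)))]
  live := []
  reps := []
  close := []
  n := 0

end CfsgLib.HeType.Tri.Affine
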